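import Cfsg.Agent.Lib.Helper9.TCData.HeK0.Main

set_option autoImplicit false
set_option maxRecDepth 1000000

namespace Cfsg.Agent.Helper9.TCData.HeK0
open Cfsg.Agent.Helper9.TC2

theorem e0_8 : allRange 17835 3124 (fun u => chkE tab 0 u) = true := by decide +kernel

theorem e0_9 : allRange 20959 571 (fun u => chkE tab 0 u) = true := by decide +kernel

theorem e1_0 : allRange 0 2865 (fun u => chkE tab 1 u) = true := by decide +kernel

theorem e1_1 : allRange 2865 2651 (fun u => chkE tab 1 u) = true := by decide +kernel

theorem e1_2 : allRange 5516 2601 (fun u => chkE tab 1 u) = true := by decide +kernel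

theorem e1_3 : allRange 8117 2488 (fun u => chkE tab 1 u) = true := by decide +kernel

theorem e1_4 : allRange 10605 2212 (fun u => chkE tab 1 u) = true := by decide +kernel

theorem e1_5 : allRange 12817 2716 (fun u => chkE tab 1 u) = true := by decide +kernel


end Cfsg.Agent.Helper9.TCData.HeK0
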