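import Cfsg.Agent.Lib.Helper9.TCData.HeK0.Main

set_option autoImplicit false
set_option maxRecDepth 1000000

namespace Cfsg.Agent.Helper9.TCData.HeK0
open Cfsg.Agent.Helper9.TC2

theorem e1_6 : allRange 15533 2573 (fun u => chkE tab 1 u) = true := by decide +kernel

theorem e1_7 : allRange 18106 3107 (fun u => chkE tab 1 u) = true := by decide +kernel

theorem e1_8 : allRange 21213 317 (fun u => chkE tab 1 u) = true := by decide +kernel

theorem e2_0 : allRange 0 2493 (fun u => chkE tab 2 u) = true := by decide +kernel

theorem e2_1 : allRange 2493 2562 (fun u => chkE tab 2 u) = true := by decide +kernel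

theorem e2_2 : allRange 5055 2568 (fun u => chkE tab 2 u) = true := by decide +kernel

theorem e2_3 : allRange 7623 2538 (fun u => chkE tab 2 u) = true := by decide +kernel

theorem e2_4 : allRange 10161 2632 (fun u => chkE tab 2 u) = true := by decide +kernel


end Cfsg.Agent.Helper9.TCData.HeK0
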