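import Cfsg.Agent.Lib.Helper9.TCData.HeK0.Main

set_option autoImplicit false
set_option maxRecDepth 1000000

namespace Cfsg.Agent.Helper9.TCData.HeK0
open Cfsg.Agent.Helper9.TC2

theorem m2_0 : allRange 0 90 (fun u => chkFix tab mwords u) = true := by decide +kernel

theorem m2_1 : allRange 90 90 (fun u => chkFix tab mwords u) = true := by decide +kernel

theorem m2_2 : allRange 180 90 (fun u => chkFix tab mwords u) = true := by decide +kernel

theorem m2_3 : allRange 270 90 (fun u => chkFix tab mwords u) = true := by decide +kernel

theorem m2_4 : allRange 360 90 (fun u => chkFix tab mwords u) = true := by decide +kernel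

theorem m2_5 : allRange 450 90 (fun u => chkFix tab mwords u) = true := by decide +kernel

theorem m2_6 : allRange 540 90 (fun u => chkFix tab mwords u) = true := by decide +kernel

theorem m2_7 : allRange 630 90 (fun u => chkFix tab mwords u) = true := by decide +kernel


end Cfsg.Agent.Helper9.TCData.HeK0
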