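import Cfsg.Agent.Lib.Helper9.TCData.HeK0.Main

set_option autoImplicit false
set_option maxRecDepth 1000000

namespace Cfsg.Agent.Helper9.TCData.HeK0
open Cfsg.Agent.Helper9.TC2

theorem m2_72 : allRange 6480 90 (fun u => chkFix tab mwords u) = true := by decide +kernel

theorem m2_73 : allRange 6570 90 (fun u => chkFix tab mwords u) = true := by decide +kernel

theorem m2_74 : allRange 6660 90 (fun u => chkFix tab mwords u) = true := by decide +kernel

theorem m2_75 : allRange 6750 90 (fun u => chkFix tab mwords u) = true := by decide +kernel

theorem m2_76 : allRange 6840 90 (fun u => chkFix tab mwords u) = true := by decide +kernel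

theorem m2_77 : allRange 6930 90 (fun u => chkFix tab mwords u) = true := by decide +kernel

theorem m2_78 : allRange 7020 90 (fun u => chkFix tab mwords u) = true := by decide +kernel

theorem m2_79 : allRange 7110 90 (fun u => chkFix tab mwords u) = true := by decide +kernel


end Cfsg.Agent.Helper9.TCData.HeK0
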