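import Cfsg.Agent.Lib.Helper9.TCData.HeK0.Main

set_option autoImplicit false
set_option maxRecDepth 1000000

namespace Cfsg.Agent.Helper9.TCData.HeK0
open Cfsg.Agent.Helper9.TC2

theorem m2_88 : allRange 7920 90 (fun u => chkFix tab mwords u) = true := by decide +kernel

theorem m2_89 : allRange 8010 90 (fun u => chkFix tab mwords u) = true := by decide +kernel

theorem m2_90 : allRange 8100 90 (fun u => chkFix tab mwords u) = true := by decide +kernel

theorem m2_91 : allRange 8190 90 (fun u => chkFix tab mwords u) = true := by decide +kernel

theorem m2_92 : allRange 8280 90 (fun u => chkFix tab mwords u) = true := by decide +kernel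

theorem m2_93 : allRange 8370 90 (fun u => chkFix tab mwords u) = true := by decide +kernel

theorem m2_94 : allRange 8460 90 (fun u => chkFix tab mwords u) = true := by decide +kernel

theorem m2_95 : allRange 8550 90 (fun u => chkFix tab mwords u) = true := by decide +kernel


end Cfsg.Agent.Helper9.TCData.HeK0
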