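import Cfsg.Agent.Lib.Helper9.TCData.HeK0.Main

set_option autoImplicit false
set_option maxRecDepth 1000000

namespace Cfsg.Agent.Helper9.TCData.HeK0
open Cfsg.Agent.Helper9.TC2

theorem m2_128 : allRange 11520 90 (fun u => chkFix tab mwords u) = true := by decide +kernel

theorem m2_129 : allRange 11610 90 (fun u => chkFix tab mwords u) = true := by decide +kernel

theorem m2_130 : allRange 11700 90 (fun u => chkFix tab mwords u) = true := by decide +kernel

theorem m2_131 : allRange 11790 90 (fun u => chkFix tab mwords u) = true := by decide +kernel

theorem m2_132 : allRange 11880 90 (fun u => chkFix tab mwords u) = true := by decide +kernel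

theorem m2_133 : allRange 11970 90 (fun u => chkFix tab mwords u) = true := by decide +kernel

theorem m2_134 : allRange 12060 90 (fun u => chkFix tab mwords u) = true := by decide +kernel

theorem m2_135 : allRange 12150 90 (fun u => chkFix tab mwords u) = true := by decide +kernel


end Cfsg.Agent.Helper9.TCData.HeK0
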