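import Cfsg.Agent.Lib.Helper9.TCData.HeK0.Main

set_option autoImplicit false
set_option maxRecDepth 1000000

namespace Cfsg.Agent.Helper9.TCData.HeK0
open Cfsg.Agent.Helper9.TC2

theorem m2_144 : allRange 12960 90 (fun u => chkFix tab mwords u) = true := by decide +kernel

theorem m2_145 : allRange 13050 90 (fun u => chkFix tab mwords u) = true := by decide +kernel

theorem m2_146 : allRange 13140 90 (fun u => chkFix tab mwords u) = true := by decide +kernel

theorem m2_147 : allRange 13230 90 (fun u => chkFix tab mwords u) = true := by decide +kernel

theorem m2_148 : allRange 13320 90 (fun u => chkFix tab mwords u) = true := by decide +kernel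

theorem m2_149 : allRange 13410 90 (fun u => chkFix tab mwords u) = true := by decide +kernel

theorem m2_150 : allRange 13500 90 (fun u => chkFix tab mwords u) = true := by decide +kernel

theorem m2_151 : allRange 13590 90 (fun u => chkFix tab mwords u) = true := by decide +kernel


end Cfsg.Agent.Helper9.TCData.HeK0
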