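import Cfsg.Agent.Lib.Helper9.TCData.HeK0.Main

set_option autoImplicit false
set_option maxRecDepth 1000000

namespace Cfsg.Agent.Helper9.TCData.HeK0
open Cfsg.Agent.Helper9.TC2

theorem e3_5 : allRange 12622 2426 (fun u => chkE tab 3 u) = true := by decide +kernel

theorem e3_6 : allRange 15048 2509 (fun u => chkE tab 3 u) = true := by decide +kernel

theorem e3_7 : allRange 17557 2642 (fun u => chkE tab 3 u) = true := by decide +kernel

theorem e3_8 : allRange 20199 1331 (fun u => chkE tab 3 u) = true := by decide +kernel

theorem e4_0 : allRange 0 2845 (fun u => chkE tab 4 u) = true := by decide +kernel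

theorem e4_1 : allRange 2845 2648 (fun u => chkE tab 4 u) = true := by decide +kernel

theorem e4_2 : allRange 5493 2485 (fun u => chkE tab 4 u) = true := by decide +kernel

theorem e4_3 : allRange 7978 2322 (fun u => chkE tab 4 u) = true := by decide +kernel


end Cfsg.Agent.Helper9.TCData.HeK0
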