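import Cfsg.Agent.Lib.Helper9.TCData.HeK0.Main

set_option autoImplicit false
set_option maxRecDepth 1000000

namespace Cfsg.Agent.Helper9.TCData.HeK0
open Cfsg.Agent.Helper9.TC2

theorem m2_168 : allRange 15120 90 (fun u => chkFix tab mwords u) = true := by decide +kernel

theorem m2_169 : allRange 15210 90 (fun u => chkFix tab mwords u) = true := by decide +kernel

theorem m2_170 : allRange 15300 90 (fun u => chkFix tab mwords u) = true := by decide +kernel

theorem m2_171 : allRange 15390 90 (fun u => chkFix tab mwords u) = true := by decide +kernel

theorem m2_172 : allRange 15480 90 (fun u => chkFix tab mwords u) = true := by decide +kernel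

theorem m2_173 : allRange 15570 90 (fun u => chkFix tab mwords u) = true := by decide +kernel

theorem m2_174 : allRange 15660 90 (fun u => chkFix tab mwords u) = true := by decide +kernel

theorem m2_175 : allRange 15750 90 (fun u => chkFix tab mwords u) = true := by decide +kernel


end Cfsg.Agent.Helper9.TCData.HeK0
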