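import Cfsg.Agent.Lib.Helper9.TCData.HeK0.Main

set_option autoImplicit false
set_option maxRecDepth 1000000

namespace Cfsg.Agent.Helper9.TCData.HeK0
open Cfsg.Agent.Helper9.TC2

theorem m2_176 : allRange 15840 90 (fun u => chkFix tab mwords u) = true := by decide +kernel

theorem m2_177 : allRange 15930 90 (fun u => chkFix tab mwords u) = true := by decide +kernel

theorem m2_178 : allRange 16020 90 (fun u => chkFix tab mwords u) = true := by decide +kernel

theorem m2_179 : allRange 16110 90 (fun u => chkFix tab mwords u) = true := by decide +kernel

theorem m2_180 : allRange 16200 90 (fun u => chkFix tab mwords u) = true := by decide +kernel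

theorem m2_181 : allRange 16290 90 (fun u => chkFix tab mwords u) = true := by decide +kernel

theorem m2_182 : allRange 16380 90 (fun u => chkFix tab mwords u) = true := by decide +kernel

theorem m2_183 : allRange 16470 90 (fun u => chkFix tab mwords u) = true := by decide +kernel


end Cfsg.Agent.Helper9.TCData.HeK0
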