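import Cfsg.Agent.Lib.Helper9.TCData.HeK0.Main

set_option autoImplicit false
set_option maxRecDepth 1000000

namespace Cfsg.Agent.Helper9.TCData.HeK0
open Cfsg.Agent.Helper9.TC2

theorem m2_184 : allRange 16560 90 (fun u => chkFix tab mwords u) = true := by decide +kernel

theorem m2_185 : allRange 16650 90 (fun u => chkFix tab mwords u) = true := by decide +kernel

theorem m2_186 : allRange 16740 90 (fun u => chkFix tab mwords u) = true := by decide +kernel

theorem m2_187 : allRange 16830 90 (fun u => chkFix tab mwords u) = true := by decide +kernel

theorem m2_188 : allRange 16920 90 (fun u => chkFix tab mwords u) = true := by decide +kernel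

theorem m2_189 : allRange 17010 90 (fun u => chkFix tab mwords u) = true := by decide +kernel

theorem m2_190 : allRange 17100 90 (fun u => chkFix tab mwords u) = true := by decide +kernel

theorem m2_191 : allRange 17190 90 (fun u => chkFix tab mwords u) = true := by decide +kernel


end Cfsg.Agent.Helper9.TCData.HeK0
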