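import Cfsg.Agent.Lib.Helper9.TCData.HeK0.Main

set_option autoImplicit false
set_option maxRecDepth 1000000

namespace Cfsg.Agent.Helper9.TCData.HeK0
open Cfsg.Agent.Helper9.TC2

theorem e5_3 : allRange 8586 2369 (fun u => chkE tab 5 u) = true := by decide +kernel

theorem e5_4 : allRange 10955 2291 (fun u => chkE tab 5 u) = true := by decide +kernel

theorem e5_5 : allRange 13246 2388 (fun u => chkE tab 5 u) = true := by decide +kernel

theorem e5_6 : allRange 15634 2441 (fun u => chkE tab 5 u) = true := by decide +kernel

theorem e5_7 : allRange 18075 2809 (fun u => chkE tab 5 u) = true := by decide +kernel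

theorem e5_8 : allRange 20884 646 (fun u => chkE tab 5 u) = true := by decide +kernel

theorem e6_0 : allRange 0 3303 (fun u => chkE tab 6 u) = true := by decide +kernel

theorem e6_1 : allRange 3303 2924 (fun u => chkE tab 6 u) = true := by decide +kernel


end Cfsg.Agent.Helper9.TCData.HeK0
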