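import Cfsg.Agent.Lib.Helper9.TCData.HeK0.Main

set_option autoImplicit false
set_option maxRecDepth 1000000

namespace Cfsg.Agent.Helper9.TCData.HeK0
open Cfsg.Agent.Helper9.TC2

theorem f_0 : allRange 0 348 (fun u => chkFin tab u) = true := by decide +kernel

theorem f_1 : allRange 348 348 (fun u => chkFin tab u) = true := by decide +kernel

theorem f_2 : allRange 696 348 (fun u => chkFin tab u) = true := by decide +kernel

theorem f_3 : allRange 1044 348 (fun u => chkFin tab u) = true := by decide +kernel

theorem f_4 : allRange 1392 348 (fun u => chkFin tab u) = true := by decide +kernel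

theorem f_5 : allRange 1740 348 (fun u => chkFin tab u) = true := by decide +kernel

theorem f_6 : allRange 2088 348 (fun u => chkFin tab u) = true := by decide +kernel

theorem f_7 : allRange 2436 348 (fun u => chkFin tab u) = true := by decide +kernel


end Cfsg.Agent.Helper9.TCData.HeK0
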