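import Cfsg.Agent.Lib.Helper9.TCData.HeK0.S0
import Cfsg.Agent.Lib.Helper9.TCData.HeK0.S1
import Cfsg.Agent.Lib.Helper9.TCData.HeK0.S2
import Cfsg.Agent.Lib.Helper9.TCData.HeK0.S3
import Cfsg.Agent.Lib.Helper9.TCData.HeK0.S4
import Cfsg.Agent.Lib.Helper9.TCData.HeK0.S5
import Cfsg.Agent.Lib.Helper9.TCData.HeK0.S6
import Cfsg.Agent.Lib.Helper9.TCData.HeK0.S7
import Cfsg.Agent.Lib.Helper9.TCData.HeK0.S8
import Cfsg.Agent.Lib.Helper9.TCData.HeK0.S9
import Cfsg.Agent.Lib.Helper9.TCData.HeK0.S10
import Cfsg.Agent.Lib.Helper9.TCData.HeK0.S11
import Cfsg.Agent.Lib.Helper9.TCData.HeK0.S12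
import Cfsg.Agent.Lib.Helper9.TCData.HeK0.S13
import Cfsg.Agent.Lib.Helper9.TCData.HeK0.S14
import Cfsg.Agent.Lib.Helper9.TCData.HeK0.S15
import Cfsg.Agent.Lib.Helper9.TCData.HeK0.S16
import Cfsg.Agent.Lib.Helper9.TCData.HeK0.S17
import Cfsg.Agent.Lib.Helper9.TCData.HeK0.S18
import Cfsg.Agent.Lib.Helper9.TCData.HeK0.S19
import Cfsg.Agent.Lib.Helper9.TCData.HeK0.S20
import Cfsg.Agent.Lib.Helper9.TCData.HeK0.S21
import Cfsg.Agent.Lib.Helper9.TCData.HeK0.S22
import Cfsg.Agent.Lib.Helper9.TCData.HeK0.S23
import Cfsg.Agent.Lib.Helper9.TCData.HeK0.S24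
import Cfsg.Agent.Lib.Helper9.TCData.HeK0.S25
import Cfsg.Agent.Lib.Helper9.TCData.HeK0.S26
import Cfsg.Agent.Lib.Helper9.TCData.HeK0.S27
import Cfsg.Agent.Lib.Helper9.TCData.HeK0.S28
import Cfsg.Agent.Lib.Helper9.TCData.HeK0.S29
import Cfsg.Agent.Lib.Helper9.TCData.HeK0.S30
import Cfsg.Agent.Lib.Helper9.TCData.HeK0.S31
import Cfsg.Agent.Lib.Helper9.TCData.HeK0.S32
import Cfsg.Agent.Lib.Helper9.TCData.HeK0.S33
import Cfsg.Agent.Lib.Helper9.TCData.HeK0.S34
import Cfsg.Agent.Lib.Helper9.TCData.HeK0.S35
import Cfsg.Agent.Lib.Helper9.TCData.HeK0.S36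
import Cfsg.Agent.Lib.Helper9.TCData.HeK0.S37
import Cfsg.Agent.Lib.Helper9.TCData.HeK0.S38
import Cfsg.Agent.Lib.Helper9.TCData.HeK0.S39
import Cfsg.Agent.Lib.Helper9.TCData.HeK0.S40
import Cfsg.Agent.Lib.Helper9.TCData.HeK0.S41
import Cfsg.Agent.Lib.Helper9.TCData.HeK0.S42
import Cfsg.Agent.Lib.Helper9.TCData.HeK0.S43
import Cfsg.Agent.Lib.Helper9.TCData.HeK0.S44
import Cfsg.Agent.Lib.Helper9.TCData.HeK0.S45
import Cfsg.Agent.Lib.Helper9.TCData.HeK0.S46
import Cfsg.Agent.Lib.Helper9.TCData.HeK0.S47
import Cfsg.Agent.Lib.Helper9.TCData.HeK0.S48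
import Cfsg.Agent.Lib.Helper9.TCData.HeK0.S49
import Cfsg.Agent.Lib.Helper9.TCData.HeK0.S50

set_option autoImplicit false
set_option maxRecDepth 1000000

namespace Cfsg.Agent.Helper9.TCData.HeK0
open Cfsg.Agent.Helper9.TC2


theorem hE0 : ∀ u < 21530, chkE tab 0 u = true := by
  have h0 : ∀ u < 0, (fun u => chkE tab 0 u) u = true := range_zero
  have h1 : ∀ u < 2152, (fun u => chkE tab 0 u) u = true := ext_range (a := 0) (len := 2152) h0 e0_0
  have h2 : ∀ u < 4351, (fun u => chkE tab 0 u) u = true := ext_range (a := 2152) (len := 2199) h1 e0_1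
  have h3 : ∀ u < 6333, (fun u => chkE tab 0 u) u = true := ext_range (a := 4351) (len := 1982) h2 e0_2
  have h4 : ∀ u < 8734, (fun u => chkE tab 0 u) u = true := ext_range (a := 6333) (len := 2401) h3 e0_3
  have h5 : ∀ u < 10704, (fun u => chkE tab 0 u) u = true := ext_range (a := 8734) (len := 1970) h4 e0_4
  have h6 : ∀ u < 12842, (fun u => chkE tab 0 u) u = true := ext_range (a := 10704) (len := 2138) h5 e0_5
  have h7 : ∀ u < 15688, (fun u => chkE tab 0 u) u = true := ext_range (a := 12842) (len := 2846) h6 e0_6
  have h8 : ∀ u < 17835, (fun u => chkE tab 0 u) u = true := ext_range (a := 15688) (len := 2147) h7 e0_7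
  have h9 : ∀ u < 20959, (fun u => chkE tab 0 u) u = true := ext_range (a := 17835) (len := 3124) h8 e0_8
  have h10 : ∀ u < 21530, (fun u => chkE tab 0 u) u = true := ext_range (a := 20959) (len := 571) h9 e0_9
  exact h10

theorem hE1 : ∀ u < 21530, chkE tab 1 u = true := by
  have h0 : ∀ u < 0, (fun u => chkE tab 1 u) u = true := range_zero
  have h1 : ∀ u < 2865, (fun u => chkE tab 1 u) u = true := ext_range (a := 0) (len := 2865) h0 e1_0
  have h2 : ∀ u < 5516, (fun u => chkE tab 1 u) u = true := ext_range (a := 2865) (len := 2651) h1 e1_1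
  have h3 : ∀ u < 8117, (fun u => chkE tab 1 u) u = true := ext_range (a := 5516) (len := 2601) h2 e1_2
  have h4 : ∀ u < 10605, (fun u => chkE tab 1 u) u = true := ext_range (a := 8117) (len := 2488) h3 e1_3
  have h5 : ∀ u < 12817, (fun u => chkE tab 1 u) u = true := ext_range (a := 10605) (len := 2212) h4 e1_4
  have h6 : ∀ u < 15533, (fun u => chkE tab 1 u) u = true := ext_range (a := 12817) (len := 2716) h5 e1_5
  have h7 : ∀ u < 18106, (fun u => chkE tab 1 u) u = true := ext_range (a := 15533) (len := 2573) h6 e1_6
  have h8 : ∀ u < 21213, (fun u => chkE tab 1 u) u = true := ext_range (a := 18106) (len := 3107) h7 e1_7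
  have h9 : ∀ u < 21530, (fun u => chkE tab 1 u) u = true := ext_range (a := 21213) (len := 317) h8 e1_8
  exact h9

theorem hE2 : ∀ u < 21530, chkE tab 2 u = true := by
  have h0 : ∀ u < 0, (fun u => chkE tab 2 u) u = true := range_zero
  have h1 : ∀ u < 2493, (fun u => chkE tab 2 u) u = true := ext_range (a := 0) (len := 2493) h0 e2_0
  have h2 : ∀ u < 5055, (fun u => chkE tab 2 u) u = true := ext_range (a := 2493) (len := 2562) h1 e2_1
  have h3 : ∀ u < 7623, (fun u => chkE tab 2 u) u = true := ext_range (a := 5055) (len := 2568) h2 e2_2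
  have h4 : ∀ u < 10161, (fun u => chkE tab 2 u) u = true := ext_range (a := 7623) (len := 2538) h3 e2_3
  have h5 : ∀ u < 12793, (fun u => chkE tab 2 u) u = true := ext_range (a := 10161) (len := 2632) h4 e2_4
  have h6 : ∀ u < 15744, (fun u => chkE tab 2 u) u = true := ext_range (a := 12793) (len := 2951) h5 e2_5
  have h7 : ∀ u < 18885, (fun u => chkE tab 2 u) u = true := ext_range (a := 15744) (len := 3141) h6 e2_6
  have h8 : ∀ u < 21530, (fun u => chkE tab 2 u) u = true := ext_range (a := 18885) (len := 2645) h7 e2_7
  exact h8

theorem hE3 : ∀ u < 21530, chkE tab 3 u = true := by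
  have h0 : ∀ u < 0, (fun u => chkE tab 3 u) u = true := range_zero
  have h1 : ∀ u < 2623, (fun u => chkE tab 3 u) u = true := ext_range (a := 0) (len := 2623) h0 e3_0
  have h2 : ∀ u < 5231, (fun u => chkE tab 3 u) u = true := ext_range (a := 2623) (len := 2608) h1 e3_1
  have h3 : ∀ u < 7756, (fun u => chkE tab 3 u) u = true := ext_range (a := 5231) (len := 2525) h2 e3_2
  have h4 : ∀ u < 10112, (fun u => chkE tab 3 u) u = true := ext_range (a := 7756) (len := 2356) h3 e3_3
  have h5 : ∀ u < 12622, (fun u => chkE tab 3 u) u = true := ext_range (a := 10112) (len := 2510) h4 e3_4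
  have h6 : ∀ u < 15048, (fun u => chkE tab 3 u) u = true := ext_range (a := 12622) (len := 2426) h5 e3_5
  have h7 : ∀ u < 17557, (fun u => chkE tab 3 u) u = true := ext_range (a := 15048) (len := 2509) h6 e3_6
  have h8 : ∀ u < 20199, (fun u => chkE tab 3 u) u = true := ext_range (a := 17557) (len := 2642) h7 e3_7
  have h9 : ∀ u < 21530, (fun u => chkE tab 3 u) u = true := ext_range (a := 20199) (len := 1331) h8 e3_8
  exact h9

theorem hE4 : ∀ u < 21530, chkE tab 4 u = true := by
  have h0 : ∀ u < 0, (fun u => chkE tab 4 u) u = true := range_zero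
  have h1 : ∀ u < 2845, (fun u => chkE tab 4 u) u = true := ext_range (a := 0) (len := 2845) h0 e4_0
  have h2 : ∀ u < 5493, (fun u => chkE tab 4 u) u = true := ext_range (a := 2845) (len := 2648) h1 e4_1
  have h3 : ∀ u < 7978, (fun u => chkE tab 4 u) u = true := ext_range (a := 5493) (len := 2485) h2 e4_2
  have h4 : ∀ u < 10300, (fun u => chkE tab 4 u) u = true := ext_range (a := 7978) (len := 2322) h3 e4_3
  have h5 : ∀ u < 12771, (fun u => chkE tab 4 u) u = true := ext_range (a := 10300) (len := 2471) h4 e4_4
  have h6 : ∀ u < 15223, (fun u => chkE tab 4 u) u = true := ext_range (a := 12771) (len := 2452) h5 e4_5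
  have h7 : ∀ u < 17680, (fun u => chkE tab 4 u) u = true := ext_range (a := 15223) (len := 2457) h6 e4_6
  have h8 : ∀ u < 20321, (fun u => chkE tab 4 u) u = true := ext_range (a := 17680) (len := 2641) h7 e4_7
  have h9 : ∀ u < 21530, (fun u => chkE tab 4 u) u = true := ext_range (a := 20321) (len := 1209) h8 e4_8
  exact h9

theorem hE5 : ∀ u < 21530, chkE tab 5 u = true := by
  have h0 : ∀ u < 0, (fun u => chkE tab 5 u) u = true := range_zero
  have h1 : ∀ u < 3185, (fun u => chkE tab 5 u) u = true := ext_range (a := 0) (len := 3185) h0 e5_0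
  have h2 : ∀ u < 6080, (fun u => chkE tab 5 u) u = true := ext_range (a := 3185) (len := 2895) h1 e5_1
  have h3 : ∀ u < 8586, (fun u => chkE tab 5 u) u = true := ext_range (a := 6080) (len := 2506) h2 e5_2
  have h4 : ∀ u < 10955, (fun u => chkE tab 5 u) u = true := ext_range (a := 8586) (len := 2369) h3 e5_3
  have h5 : ∀ u < 13246, (fun u => chkE tab 5 u) u = true := ext_range (a := 10955) (len := 2291) h4 e5_4
  have h6 : ∀ u < 15634, (fun u => chkE tab 5 u) u = true := ext_range (a := 13246) (len := 2388) h5 e5_5
  have h7 : ∀ u < 18075, (fun u => chkE tab 5 u) u = true := ext_range (a := 15634) (len := 2441) h6 e5_6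
  have h8 : ∀ u < 20884, (fun u => chkE tab 5 u) u = true := ext_range (a := 18075) (len := 2809) h7 e5_7
  have h9 : ∀ u < 21530, (fun u => chkE tab 5 u) u = true := ext_range (a := 20884) (len := 646) h8 e5_8
  exact h9

theorem hE6 : ∀ u < 21530, chkE tab 6 u = true := by
  have h0 : ∀ u < 0, (fun u => chkE tab 6 u) u = true := range_zero
  have h1 : ∀ u < 3303, (fun u => chkE tab 6 u) u = true := ext_range (a := 0) (len := 3303) h0 e6_0
  have h2 : ∀ u < 6227, (fun u => chkE tab 6 u) u = true := ext_range (a := 3303) (len := 2924) h1 e6_1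
  have h3 : ∀ u < 8720, (fun u => chkE tab 6 u) u = true := ext_range (a := 6227) (len := 2493) h2 e6_2
  have h4 : ∀ u < 11166, (fun u => chkE tab 6 u) u = true := ext_range (a := 8720) (len := 2446) h3 e6_3
  have h5 : ∀ u < 13517, (fun u => chkE tab 6 u) u = true := ext_range (a := 11166) (len := 2351) h4 e6_4
  have h6 : ∀ u < 16069, (fun u => chkE tab 6 u) u = true := ext_range (a := 13517) (len := 2552) h5 e6_5
  have h7 : ∀ u < 18370, (fun u => chkE tab 6 u) u = true := ext_range (a := 16069) (len := 2301) h6 e6_6
  have h8 : ∀ u < 21530, (fun u => chkE tab 6 u) u = true := ext_range (a := 18370) (len := 3160) h7 e6_7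
  exact h8

theorem hL : ∀ u < 21530, chkL tab u = true := by
  have h0 : ∀ u < 0, (fun u => chkL tab u) u = true := range_zero
  have h1 : ∀ u < 21530, (fun u => chkL tab u) u = true := ext_range (a := 0) (len := 21530) h0 l_0
  exact h1

theorem hF : ∀ u < 21504, chkFin tab u = true := by
  have h0 : ∀ u < 0, (fun u => chkFin tab u) u = true := range_zero
  have h1 : ∀ u < 348, (fun u => chkFin tab u) u = true := ext_range (a := 0) (len := 348) h0 f_0
  have h2 : ∀ u < 696, (fun u => chkFin tab u) u = true := ext_range (a := 348) (len := 348) h1 f_1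
  have h3 : ∀ u < 1044, (fun u => chkFin tab u) u = true := ext_range (a := 696) (len := 348) h2 f_2
  have h4 : ∀ u < 1392, (fun u => chkFin tab u) u = true := ext_range (a := 1044) (len := 348) h3 f_3
  have h5 : ∀ u < 1740, (fun u => chkFin tab u) u = true := ext_range (a := 1392) (len := 348) h4 f_4
  have h6 : ∀ u < 2088, (fun u => chkFin tab u) u = true := ext_range (a := 1740) (len := 348) h5 f_5
  have h7 : ∀ u < 2436, (fun u => chkFin tab u) u = true := ext_range (a := 2088) (len := 348) h6 f_6
  have h8 : ∀ u < 2784, (fun u => chkFin tab u) u = true := ext_range (a := 2436) (len := 348) h7 f_7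
  have h9 : ∀ u < 3132, (fun u => chkFin tab u) u = true := ext_range (a := 2784) (len := 348) h8 f_8
  have h10 : ∀ u < 3480, (fun u => chkFin tab u) u = true := ext_range (a := 3132) (len := 348) h9 f_9
  have h11 : ∀ u < 3828, (fun u => chkFin tab u) u = true := ext_range (a := 3480) (len := 348) h10 f_10
  have h12 : ∀ u < 4176, (fun u => chkFin tab u) u = true := ext_range (a := 3828) (len := 348) h11 f_11
  have h13 : ∀ u < 4524, (fun u => chkFin tab u) u = true := ext_range (a := 4176) (len := 348) h12 f_12
  have h14 : ∀ u < 4872, (fun u => chkFin tab u) u = true := ext_range (a := 4524) (len := 348) h13 f_13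
  have h15 : ∀ u < 5220, (fun u => chkFin tab u) u = true := ext_range (a := 4872) (len := 348) h14 f_14
  have h16 : ∀ u < 5568, (fun u => chkFin tab u) u = true := ext_range (a := 5220) (len := 348) h15 f_15
  have h17 : ∀ u < 5916, (fun u => chkFin tab u) u = true := ext_range (a := 5568) (len := 348) h16 f_16
  have h18 : ∀ u < 6264, (fun u => chkFin tab u) u = true := ext_range (a := 5916) (len := 348) h17 f_17
  have h19 : ∀ u < 6612, (fun u => chkFin tab u) u = true := ext_range (a := 6264) (len := 348) h18 f_18
  have h20 : ∀ u < 6960, (fun u => chkFin tab u) u = true := ext_range (a := 6612) (len := 348) h19 f_19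
  have h21 : ∀ u < 7308, (fun u => chkFin tab u) u = true := ext_range (a := 6960) (len := 348) h20 f_20
  have h22 : ∀ u < 7656, (fun u => chkFin tab u) u = true := ext_range (a := 7308) (len := 348) h21 f_21
  have h23 : ∀ u < 8004, (fun u => chkFin tab u) u = true := ext_range (a := 7656) (len := 348) h22 f_22
  have h24 : ∀ u < 8352, (fun u => chkFin tab u) u = true := ext_range (a := 8004) (len := 348) h23 f_23
  have h25 : ∀ u < 8700, (fun u => chkFin tab u) u = true := ext_range (a := 8352) (len := 348) h24 f_24
  have h26 : ∀ u < 9048, (fun u => chkFin tab u) u = true := ext_range (a := 8700) (len := 348) h25 f_25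
  have h27 : ∀ u < 9396, (fun u => chkFin tab u) u = true := ext_range (a := 9048) (len := 348) h26 f_26
  have h28 : ∀ u < 9744, (fun u => chkFin tab u) u = true := ext_range (a := 9396) (len := 348) h27 f_27
  have h29 : ∀ u < 10092, (fun u => chkFin tab u) u = true := ext_range (a := 9744) (len := 348) h28 f_28
  have h30 : ∀ u < 10440, (fun u => chkFin tab u) u = true := ext_range (a := 10092) (len := 348) h29 f_29
  have h31 : ∀ u < 10788, (fun u => chkFin tab u) u = true := ext_range (a := 10440) (len := 348) h30 f_30
  have h32 : ∀ u < 11136, (fun u => chkFin tab u) u = true := ext_range (a := 10788) (len := 348) h31 f_31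
  have h33 : ∀ u < 11484, (fun u => chkFin tab u) u = true := ext_range (a := 11136) (len := 348) h32 f_32
  have h34 : ∀ u < 11832, (fun u => chkFin tab u) u = true := ext_range (a := 11484) (len := 348) h33 f_33
  have h35 : ∀ u < 12180, (fun u => chkFin tab u) u = true := ext_range (a := 11832) (len := 348) h34 f_34
  have h36 : ∀ u < 12528, (fun u => chkFin tab u) u = true := ext_range (a := 12180) (len := 348) h35 f_35
  have h37 : ∀ u < 12876, (fun u => chkFin tab u) u = true := ext_range (a := 12528) (len := 348) h36 f_36
  have h38 : ∀ u < 13224, (fun u => chkFin tab u) u = true := ext_range (a := 12876) (len := 348) h37 f_37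
  have h39 : ∀ u < 13572, (fun u => chkFin tab u) u = true := ext_range (a := 13224) (len := 348) h38 f_38
  have h40 : ∀ u < 13920, (fun u => chkFin tab u) u = true := ext_range (a := 13572) (len := 348) h39 f_39
  have h41 : ∀ u < 14268, (fun u => chkFin tab u) u = true := ext_range (a := 13920) (len := 348) h40 f_40
  have h42 : ∀ u < 14616, (fun u => chkFin tab u) u = true := ext_range (a := 14268) (len := 348) h41 f_41
  have h43 : ∀ u < 14964, (fun u => chkFin tab u) u = true := ext_range (a := 14616) (len := 348) h42 f_42
  have h44 : ∀ u < 15312, (fun u => chkFin tab u) u = true := ext_range (a := 14964) (len := 348) h43 f_43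
  have h45 : ∀ u < 15660, (fun u => chkFin tab u) u = true := ext_range (a := 15312) (len := 348) h44 f_44
  have h46 : ∀ u < 16008, (fun u => chkFin tab u) u = true := ext_range (a := 15660) (len := 348) h45 f_45
  have h47 : ∀ u < 16356, (fun u => chkFin tab u) u = true := ext_range (a := 16008) (len := 348) h46 f_46
  have h48 : ∀ u < 16704, (fun u => chkFin tab u) u = true := ext_range (a := 16356) (len := 348) h47 f_47
  have h49 : ∀ u < 17052, (fun u => chkFin tab u) u = true := ext_range (a := 16704) (len := 348) h48 f_48
  have h50 : ∀ u < 17400, (fun u => chkFin tab u) u = true := ext_range (a := 17052) (len := 348) h49 f_49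
  have h51 : ∀ u < 17748, (fun u => chkFin tab u) u = true := ext_range (a := 17400) (len := 348) h50 f_50
  have h52 : ∀ u < 18096, (fun u => chkFin tab u) u = true := ext_range (a := 17748) (len := 348) h51 f_51
  have h53 : ∀ u < 18444, (fun u => chkFin tab u) u = true := ext_range (a := 18096) (len := 348) h52 f_52
  have h54 : ∀ u < 18792, (fun u => chkFin tab u) u = true := ext_range (a := 18444) (len := 348) h53 f_53
  have h55 : ∀ u < 19140, (fun u => chkFin tab u) u = true := ext_range (a := 18792) (len := 348) h54 f_54
  have h56 : ∀ u < 19488, (fun u => chkFin tab u) u = true := ext_range (a := 19140) (len := 348) h55 f_55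
  have h57 : ∀ u < 19836, (fun u => chkFin tab u) u = true := ext_range (a := 19488) (len := 348) h56 f_56
  have h58 : ∀ u < 20184, (fun u => chkFin tab u) u = true := ext_range (a := 19836) (len := 348) h57 f_57
  have h59 : ∀ u < 20532, (fun u => chkFin tab u) u = true := ext_range (a := 20184) (len := 348) h58 f_58
  have h60 : ∀ u < 20880, (fun u => chkFin tab u) u = true := ext_range (a := 20532) (len := 348) h59 f_59
  have h61 : ∀ u < 21228, (fun u => chkFin tab u) u = true := ext_range (a := 20880) (len := 348) h60 f_60
  have h62 : ∀ u < 21504, (fun u => chkFin tab u) u = true := ext_range (a := 21228) (len := 276) h61 f_61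
  exact h62

theorem hC : ∀ u < 21530, chkCls tab u = true := by
  have h0 : ∀ u < 0, (fun u => chkCls tab u) u = true := range_zero
  have h1 : ∀ u < 2667, (fun u => chkCls tab u) u = true := ext_range (a := 0) (len := 2667) h0 c_0
  have h2 : ∀ u < 5334, (fun u => chkCls tab u) u = true := ext_range (a := 2667) (len := 2667) h1 c_1
  have h3 : ∀ u < 8001, (fun u => chkCls tab u) u = true := ext_range (a := 5334) (len := 2667) h2 c_2
  have h4 : ∀ u < 10668, (fun u => chkCls tab u) u = true := ext_range (a := 8001) (len := 2667) h3 c_3
  have h5 : ∀ u < 13335, (fun u => chkCls tab u) u = true := ext_range (a := 10668) (len := 2667) h4 c_4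
  have h6 : ∀ u < 16002, (fun u => chkCls tab u) u = true := ext_range (a := 13335) (len := 2667) h5 c_5
  have h7 : ∀ u < 18669, (fun u => chkCls tab u) u = true := ext_range (a := 16002) (len := 2667) h6 c_6
  have h8 : ∀ u < 21336, (fun u => chkCls tab u) u = true := ext_range (a := 18669) (len := 2667) h7 c_7
  have h9 : ∀ u < 21530, (fun u => chkCls tab u) u = true := ext_range (a := 21336) (len := 194) h8 c_8
  exact h9

theorem hM1 : ∀ u < 21504, chkM1 tab u = true := by
  have h0 : ∀ u < 0, (fun u => chkM1 tab u) u = true := range_zero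
  have h1 : ∀ u < 899, (fun u => chkM1 tab u) u = true := ext_range (a := 0) (len := 899) h0 m1_0
  have h2 : ∀ u < 1798, (fun u => chkM1 tab u) u = true := ext_range (a := 899) (len := 899) h1 m1_1
  have h3 : ∀ u < 2697, (fun u => chkM1 tab u) u = true := ext_range (a := 1798) (len := 899) h2 m1_2
  have h4 : ∀ u < 3596, (fun u => chkM1 tab u) u = true := ext_range (a := 2697) (len := 899) h3 m1_3
  have h5 : ∀ u < 4495, (fun u => chkM1 tab u) u = true := ext_range (a := 3596) (len := 899) h4 m1_4
  have h6 : ∀ u < 5394, (fun u => chkM1 tab u) u = true := ext_range (a := 4495) (len := 899) h5 m1_5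
  have h7 : ∀ u < 6293, (fun u => chkM1 tab u) u = true := ext_range (a := 5394) (len := 899) h6 m1_6
  have h8 : ∀ u < 7192, (fun u => chkM1 tab u) u = true := ext_range (a := 6293) (len := 899) h7 m1_7
  have h9 : ∀ u < 8091, (fun u => chkM1 tab u) u = true := ext_range (a := 7192) (len := 899) h8 m1_8
  have h10 : ∀ u < 8990, (fun u => chkM1 tab u) u = true := ext_range (a := 8091) (len := 899) h9 m1_9
  have h11 : ∀ u < 9889, (fun u => chkM1 tab u) u = true := ext_range (a := 8990) (len := 899) h10 m1_10
  have h12 : ∀ u < 10788, (fun u => chkM1 tab u) u = true := ext_range (a := 9889) (len := 899) h11 m1_11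
  have h13 : ∀ u < 11687, (fun u => chkM1 tab u) u = true := ext_range (a := 10788) (len := 899) h12 m1_12
  have h14 : ∀ u < 12586, (fun u => chkM1 tab u) u = true := ext_range (a := 11687) (len := 899) h13 m1_13
  have h15 : ∀ u < 13485, (fun u => chkM1 tab u) u = true := ext_range (a := 12586) (len := 899) h14 m1_14
  have h16 : ∀ u < 14384, (fun u => chkM1 tab u) u = true := ext_range (a := 13485) (len := 899) h15 m1_15
  have h17 : ∀ u < 15283, (fun u => chkM1 tab u) u = true := ext_range (a := 14384) (len := 899) h16 m1_16
  have h18 : ∀ u < 16182, (fun u => chkM1 tab u) u = true := ext_range (a := 15283) (len := 899) h17 m1_17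
  have h19 : ∀ u < 17081, (fun u => chkM1 tab u) u = true := ext_range (a := 16182) (len := 899) h18 m1_18
  have h20 : ∀ u < 17980, (fun u => chkM1 tab u) u = true := ext_range (a := 17081) (len := 899) h19 m1_19
  have h21 : ∀ u < 18879, (fun u => chkM1 tab u) u = true := ext_range (a := 17980) (len := 899) h20 m1_20
  have h22 : ∀ u < 19778, (fun u => chkM1 tab u) u = true := ext_range (a := 18879) (len := 899) h21 m1_21
  have h23 : ∀ u < 20677, (fun u => chkM1 tab u) u = true := ext_range (a := 19778) (len := 899) h22 m1_22
  have h24 : ∀ u < 21504, (fun u => chkM1 tab u) u = true := ext_range (a := 20677) (len := 827) h23 m1_23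
  exact h24

theorem hM2 : ∀ u < 21504, chkFix tab mwords u = true := by
  have h0 : ∀ u < 0, (fun u => chkFix tab mwords u) u = true := range_zero
  have h1 : ∀ u < 90, (fun u => chkFix tab mwords u) u = true := ext_range (a := 0) (len := 90) h0 m2_0
  have h2 : ∀ u < 180, (fun u => chkFix tab mwords u) u = true := ext_range (a := 90) (len := 90) h1 m2_1
  have h3 : ∀ u < 270, (fun u => chkFix tab mwords u) u = true := ext_range (a := 180) (len := 90) h2 m2_2
  have h4 : ∀ u < 360, (fun u => chkFix tab mwords u) u = true := ext_range (a := 270) (len := 90) h3 m2_3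
  have h5 : ∀ u < 450, (fun u => chkFix tab mwords u) u = true := ext_range (a := 360) (len := 90) h4 m2_4
  have h6 : ∀ u < 540, (fun u => chkFix tab mwords u) u = true := ext_range (a := 450) (len := 90) h5 m2_5
  have h7 : ∀ u < 630, (fun u => chkFix tab mwords u) u = true := ext_range (a := 540) (len := 90) h6 m2_6
  have h8 : ∀ u < 720, (fun u => chkFix tab mwords u) u = true := ext_range (a := 630) (len := 90) h7 m2_7
  have h9 : ∀ u < 810, (fun u => chkFix tab mwords u) u = true := ext_range (a := 720) (len := 90) h8 m2_8
  have h10 : ∀ u < 900, (fun u => chkFix tab mwords u) u = true := ext_range (a := 810) (len := 90) h9 m2_9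
  have h11 : ∀ u < 990, (fun u => chkFix tab mwords u) u = true := ext_range (a := 900) (len := 90) h10 m2_10
  have h12 : ∀ u < 1080, (fun u => chkFix tab mwords u) u = true := ext_range (a := 990) (len := 90) h11 m2_11
  have h13 : ∀ u < 1170, (fun u => chkFix tab mwords u) u = true := ext_range (a := 1080) (len := 90) h12 m2_12
  have h14 : ∀ u < 1260, (fun u => chkFix tab mwords u) u = true := ext_range (a := 1170) (len := 90) h13 m2_13
  have h15 : ∀ u < 1350, (fun u => chkFix tab mwords u) u = true := ext_range (a := 1260) (len := 90) h14 m2_14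
  have h16 : ∀ u < 1440, (fun u => chkFix tab mwords u) u = true := ext_range (a := 1350) (len := 90) h15 m2_15
  have h17 : ∀ u < 1530, (fun u => chkFix tab mwords u) u = true := ext_range (a := 1440) (len := 90) h16 m2_16
  have h18 : ∀ u < 1620, (fun u => chkFix tab mwords u) u = true := ext_range (a := 1530) (len := 90) h17 m2_17
  have h19 : ∀ u < 1710, (fun u => chkFix tab mwords u) u = true := ext_range (a := 1620) (len := 90) h18 m2_18
  have h20 : ∀ u < 1800, (fun u => chkFix tab mwords u) u = true := ext_range (a := 1710) (len := 90) h19 m2_19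
  have h21 : ∀ u < 1890, (fun u => chkFix tab mwords u) u = true := ext_range (a := 1800) (len := 90) h20 m2_20
  have h22 : ∀ u < 1980, (fun u => chkFix tab mwords u) u = true := ext_range (a := 1890) (len := 90) h21 m2_21
  have h23 : ∀ u < 2070, (fun u => chkFix tab mwords u) u = true := ext_range (a := 1980) (len := 90) h22 m2_22
  have h24 : ∀ u < 2160, (fun u => chkFix tab mwords u) u = true := ext_range (a := 2070) (len := 90) h23 m2_23
  have h25 : ∀ u < 2250, (fun u => chkFix tab mwords u) u = true := ext_range (a := 2160) (len := 90) h24 m2_24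
  have h26 : ∀ u < 2340, (fun u => chkFix tab mwords u) u = true := ext_range (a := 2250) (len := 90) h25 m2_25
  have h27 : ∀ u < 2430, (fun u => chkFix tab mwords u) u = true := ext_range (a := 2340) (len := 90) h26 m2_26
  have h28 : ∀ u < 2520, (fun u => chkFix tab mwords u) u = true := ext_range (a := 2430) (len := 90) h27 m2_27
  have h29 : ∀ u < 2610, (fun u => chkFix tab mwords u) u = true := ext_range (a := 2520) (len := 90) h28 m2_28
  have h30 : ∀ u < 2700, (fun u => chkFix tab mwords u) u = true := ext_range (a := 2610) (len := 90) h29 m2_29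
  have h31 : ∀ u < 2790, (fun u => chkFix tab mwords u) u = true := ext_range (a := 2700) (len := 90) h30 m2_30
  have h32 : ∀ u < 2880, (fun u => chkFix tab mwords u) u = true := ext_range (a := 2790) (len := 90) h31 m2_31
  have h33 : ∀ u < 2970, (fun u => chkFix tab mwords u) u = true := ext_range (a := 2880) (len := 90) h32 m2_32
  have h34 : ∀ u < 3060, (fun u => chkFix tab mwords u) u = true := ext_range (a := 2970) (len := 90) h33 m2_33
  have h35 : ∀ u < 3150, (fun u => chkFix tab mwords u) u = true := ext_range (a := 3060) (len := 90) h34 m2_34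
  have h36 : ∀ u < 3240, (fun u => chkFix tab mwords u) u = true := ext_range (a := 3150) (len := 90) h35 m2_35
  have h37 : ∀ u < 3330, (fun u => chkFix tab mwords u) u = true := ext_range (a := 3240) (len := 90) h36 m2_36
  have h38 : ∀ u < 3420, (fun u => chkFix tab mwords u) u = true := ext_range (a := 3330) (len := 90) h37 m2_37
  have h39 : ∀ u < 3510, (fun u => chkFix tab mwords u) u = true := ext_range (a := 3420) (len := 90) h38 m2_38
  have h40 : ∀ u < 3600, (fun u => chkFix tab mwords u) u = true := ext_range (a := 3510) (len := 90) h39 m2_39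
  have h41 : ∀ u < 3690, (fun u => chkFix tab mwords u) u = true := ext_range (a := 3600) (len := 90) h40 m2_40
  have h42 : ∀ u < 3780, (fun u => chkFix tab mwords u) u = true := ext_range (a := 3690) (len := 90) h41 m2_41
  have h43 : ∀ u < 3870, (fun u => chkFix tab mwords u) u = true := ext_range (a := 3780) (len := 90) h42 m2_42
  have h44 : ∀ u < 3960, (fun u => chkFix tab mwords u) u = true := ext_range (a := 3870) (len := 90) h43 m2_43
  have h45 : ∀ u < 4050, (fun u => chkFix tab mwords u) u = true := ext_range (a := 3960) (len := 90) h44 m2_44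
  have h46 : ∀ u < 4140, (fun u => chkFix tab mwords u) u = true := ext_range (a := 4050) (len := 90) h45 m2_45
  have h47 : ∀ u < 4230, (fun u => chkFix tab mwords u) u = true := ext_range (a := 4140) (len := 90) h46 m2_46
  have h48 : ∀ u < 4320, (fun u => chkFix tab mwords u) u = true := ext_range (a := 4230) (len := 90) h47 m2_47
  have h49 : ∀ u < 4410, (fun u => chkFix tab mwords u) u = true := ext_range (a := 4320) (len := 90) h48 m2_48
  have h50 : ∀ u < 4500, (fun u => chkFix tab mwords u) u = true := ext_range (a := 4410) (len := 90) h49 m2_49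
  have h51 : ∀ u < 4590, (fun u => chkFix tab mwords u) u = true := ext_range (a := 4500) (len := 90) h50 m2_50
  have h52 : ∀ u < 4680, (fun u => chkFix tab mwords u) u = true := ext_range (a := 4590) (len := 90) h51 m2_51
  have h53 : ∀ u < 4770, (fun u => chkFix tab mwords u) u = true := ext_range (a := 4680) (len := 90) h52 m2_52
  have h54 : ∀ u < 4860, (fun u => chkFix tab mwords u) u = true := ext_range (a := 4770) (len := 90) h53 m2_53
  have h55 : ∀ u < 4950, (fun u => chkFix tab mwords u) u = true := ext_range (a := 4860) (len := 90) h54 m2_54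
  have h56 : ∀ u < 5040, (fun u => chkFix tab mwords u) u = true := ext_range (a := 4950) (len := 90) h55 m2_55
  have h57 : ∀ u < 5130, (fun u => chkFix tab mwords u) u = true := ext_range (a := 5040) (len := 90) h56 m2_56
  have h58 : ∀ u < 5220, (fun u => chkFix tab mwords u) u = true := ext_range (a := 5130) (len := 90) h57 m2_57
  have h59 : ∀ u < 5310, (fun u => chkFix tab mwords u) u = true := ext_range (a := 5220) (len := 90) h58 m2_58
  have h60 : ∀ u < 5400, (fun u => chkFix tab mwords u) u = true := ext_range (a := 5310) (len := 90) h59 m2_59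
  have h61 : ∀ u < 5490, (fun u => chkFix tab mwords u) u = true := ext_range (a := 5400) (len := 90) h60 m2_60
  have h62 : ∀ u < 5580, (fun u => chkFix tab mwords u) u = true := ext_range (a := 5490) (len := 90) h61 m2_61
  have h63 : ∀ u < 5670, (fun u => chkFix tab mwords u) u = true := ext_range (a := 5580) (len := 90) h62 m2_62
  have h64 : ∀ u < 5760, (fun u => chkFix tab mwords u) u = true := ext_range (a := 5670) (len := 90) h63 m2_63
  have h65 : ∀ u < 5850, (fun u => chkFix tab mwords u) u = true := ext_range (a := 5760) (len := 90) h64 m2_64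
  have h66 : ∀ u < 5940, (fun u => chkFix tab mwords u) u = true := ext_range (a := 5850) (len := 90) h65 m2_65
  have h67 : ∀ u < 6030, (fun u => chkFix tab mwords u) u = true := ext_range (a := 5940) (len := 90) h66 m2_66
  have h68 : ∀ u < 6120, (fun u => chkFix tab mwords u) u = true := ext_range (a := 6030) (len := 90) h67 m2_67
  have h69 : ∀ u < 6210, (fun u => chkFix tab mwords u) u = true := ext_range (a := 6120) (len := 90) h68 m2_68
  have h70 : ∀ u < 6300, (fun u => chkFix tab mwords u) u = true := ext_range (a := 6210) (len := 90) h69 m2_69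
  have h71 : ∀ u < 6390, (fun u => chkFix tab mwords u) u = true := ext_range (a := 6300) (len := 90) h70 m2_70
  have h72 : ∀ u < 6480, (fun u => chkFix tab mwords u) u = true := ext_range (a := 6390) (len := 90) h71 m2_71
  have h73 : ∀ u < 6570, (fun u => chkFix tab mwords u) u = true := ext_range (a := 6480) (len := 90) h72 m2_72
  have h74 : ∀ u < 6660, (fun u => chkFix tab mwords u) u = true := ext_range (a := 6570) (len := 90) h73 m2_73
  have h75 : ∀ u < 6750, (fun u => chkFix tab mwords u) u = true := ext_range (a := 6660) (len := 90) h74 m2_74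
  have h76 : ∀ u < 6840, (fun u => chkFix tab mwords u) u = true := ext_range (a := 6750) (len := 90) h75 m2_75
  have h77 : ∀ u < 6930, (fun u => chkFix tab mwords u) u = true := ext_range (a := 6840) (len := 90) h76 m2_76
  have h78 : ∀ u < 7020, (fun u => chkFix tab mwords u) u = true := ext_range (a := 6930) (len := 90) h77 m2_77
  have h79 : ∀ u < 7110, (fun u => chkFix tab mwords u) u = true := ext_range (a := 7020) (len := 90) h78 m2_78
  have h80 : ∀ u < 7200, (fun u => chkFix tab mwords u) u = true := ext_range (a := 7110) (len := 90) h79 m2_79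
  have h81 : ∀ u < 7290, (fun u => chkFix tab mwords u) u = true := ext_range (a := 7200) (len := 90) h80 m2_80
  have h82 : ∀ u < 7380, (fun u => chkFix tab mwords u) u = true := ext_range (a := 7290) (len := 90) h81 m2_81
  have h83 : ∀ u < 7470, (fun u => chkFix tab mwords u) u = true := ext_range (a := 7380) (len := 90) h82 m2_82
  have h84 : ∀ u < 7560, (fun u => chkFix tab mwords u) u = true := ext_range (a := 7470) (len := 90) h83 m2_83
  have h85 : ∀ u < 7650, (fun u => chkFix tab mwords u) u = true := ext_range (a := 7560) (len := 90) h84 m2_84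
  have h86 : ∀ u < 7740, (fun u => chkFix tab mwords u) u = true := ext_range (a := 7650) (len := 90) h85 m2_85
  have h87 : ∀ u < 7830, (fun u => chkFix tab mwords u) u = true := ext_range (a := 7740) (len := 90) h86 m2_86
  have h88 : ∀ u < 7920, (fun u => chkFix tab mwords u) u = true := ext_range (a := 7830) (len := 90) h87 m2_87
  have h89 : ∀ u < 8010, (fun u => chkFix tab mwords u) u = true := ext_range (a := 7920) (len := 90) h88 m2_88
  have h90 : ∀ u < 8100, (fun u => chkFix tab mwords u) u = true := ext_range (a := 8010) (len := 90) h89 m2_89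
  have h91 : ∀ u < 8190, (fun u => chkFix tab mwords u) u = true := ext_range (a := 8100) (len := 90) h90 m2_90
  have h92 : ∀ u < 8280, (fun u => chkFix tab mwords u) u = true := ext_range (a := 8190) (len := 90) h91 m2_91
  have h93 : ∀ u < 8370, (fun u => chkFix tab mwords u) u = true := ext_range (a := 8280) (len := 90) h92 m2_92
  have h94 : ∀ u < 8460, (fun u => chkFix tab mwords u) u = true := ext_range (a := 8370) (len := 90) h93 m2_93
  have h95 : ∀ u < 8550, (fun u => chkFix tab mwords u) u = true := ext_range (a := 8460) (len := 90) h94 m2_94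
  have h96 : ∀ u < 8640, (fun u => chkFix tab mwords u) u = true := ext_range (a := 8550) (len := 90) h95 m2_95
  have h97 : ∀ u < 8730, (fun u => chkFix tab mwords u) u = true := ext_range (a := 8640) (len := 90) h96 m2_96
  have h98 : ∀ u < 8820, (fun u => chkFix tab mwords u) u = true := ext_range (a := 8730) (len := 90) h97 m2_97
  have h99 : ∀ u < 8910, (fun u => chkFix tab mwords u) u = true := ext_range (a := 8820) (len := 90) h98 m2_98
  have h100 : ∀ u < 9000, (fun u => chkFix tab mwords u) u = true := ext_range (a := 8910) (len := 90) h99 m2_99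
  have h101 : ∀ u < 9090, (fun u => chkFix tab mwords u) u = true := ext_range (a := 9000) (len := 90) h100 m2_100
  have h102 : ∀ u < 9180, (fun u => chkFix tab mwords u) u = true := ext_range (a := 9090) (len := 90) h101 m2_101
  have h103 : ∀ u < 9270, (fun u => chkFix tab mwords u) u = true := ext_range (a := 9180) (len := 90) h102 m2_102
  have h104 : ∀ u < 9360, (fun u => chkFix tab mwords u) u = true := ext_range (a := 9270) (len := 90) h103 m2_103
  have h105 : ∀ u < 9450, (fun u => chkFix tab mwords u) u = true := ext_range (a := 9360) (len := 90) h104 m2_104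
  have h106 : ∀ u < 9540, (fun u => chkFix tab mwords u) u = true := ext_range (a := 9450) (len := 90) h105 m2_105
  have h107 : ∀ u < 9630, (fun u => chkFix tab mwords u) u = true := ext_range (a := 9540) (len := 90) h106 m2_106
  have h108 : ∀ u < 9720, (fun u => chkFix tab mwords u) u = true := ext_range (a := 9630) (len := 90) h107 m2_107
  have h109 : ∀ u < 9810, (fun u => chkFix tab mwords u) u = true := ext_range (a := 9720) (len := 90) h108 m2_108
  have h110 : ∀ u < 9900, (fun u => chkFix tab mwords u) u = true := ext_range (a := 9810) (len := 90) h109 m2_109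
  have h111 : ∀ u < 9990, (fun u => chkFix tab mwords u) u = true := ext_range (a := 9900) (len := 90) h110 m2_110
  have h112 : ∀ u < 10080, (fun u => chkFix tab mwords u) u = true := ext_range (a := 9990) (len := 90) h111 m2_111
  have h113 : ∀ u < 10170, (fun u => chkFix tab mwords u) u = true := ext_range (a := 10080) (len := 90) h112 m2_112
  have h114 : ∀ u < 10260, (fun u => chkFix tab mwords u) u = true := ext_range (a := 10170) (len := 90) h113 m2_113
  have h115 : ∀ u < 10350, (fun u => chkFix tab mwords u) u = true := ext_range (a := 10260) (len := 90) h114 m2_114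
  have h116 : ∀ u < 10440, (fun u => chkFix tab mwords u) u = true := ext_range (a := 10350) (len := 90) h115 m2_115
  have h117 : ∀ u < 10530, (fun u => chkFix tab mwords u) u = true := ext_range (a := 10440) (len := 90) h116 m2_116
  have h118 : ∀ u < 10620, (fun u => chkFix tab mwords u) u = true := ext_range (a := 10530) (len := 90) h117 m2_117
  have h119 : ∀ u < 10710, (fun u => chkFix tab mwords u) u = true := ext_range (a := 10620) (len := 90) h118 m2_118
  have h120 : ∀ u < 10800, (fun u => chkFix tab mwords u) u = true := ext_range (a := 10710) (len := 90) h119 m2_119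
  have h121 : ∀ u < 10890, (fun u => chkFix tab mwords u) u = true := ext_range (a := 10800) (len := 90) h120 m2_120
  have h122 : ∀ u < 10980, (fun u => chkFix tab mwords u) u = true := ext_range (a := 10890) (len := 90) h121 m2_121
  have h123 : ∀ u < 11070, (fun u => chkFix tab mwords u) u = true := ext_range (a := 10980) (len := 90) h122 m2_122
  have h124 : ∀ u < 11160, (fun u => chkFix tab mwords u) u = true := ext_range (a := 11070) (len := 90) h123 m2_123
  have h125 : ∀ u < 11250, (fun u => chkFix tab mwords u) u = true := ext_range (a := 11160) (len := 90) h124 m2_124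
  have h126 : ∀ u < 11340, (fun u => chkFix tab mwords u) u = true := ext_range (a := 11250) (len := 90) h125 m2_125
  have h127 : ∀ u < 11430, (fun u => chkFix tab mwords u) u = true := ext_range (a := 11340) (len := 90) h126 m2_126
  have h128 : ∀ u < 11520, (fun u => chkFix tab mwords u) u = true := ext_range (a := 11430) (len := 90) h127 m2_127
  have h129 : ∀ u < 11610, (fun u => chkFix tab mwords u) u = true := ext_range (a := 11520) (len := 90) h128 m2_128
  have h130 : ∀ u < 11700, (fun u => chkFix tab mwords u) u = true := ext_range (a := 11610) (len := 90) h129 m2_129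
  have h131 : ∀ u < 11790, (fun u => chkFix tab mwords u) u = true := ext_range (a := 11700) (len := 90) h130 m2_130
  have h132 : ∀ u < 11880, (fun u => chkFix tab mwords u) u = true := ext_range (a := 11790) (len := 90) h131 m2_131
  have h133 : ∀ u < 11970, (fun u => chkFix tab mwords u) u = true := ext_range (a := 11880) (len := 90) h132 m2_132
  have h134 : ∀ u < 12060, (fun u => chkFix tab mwords u) u = true := ext_range (a := 11970) (len := 90) h133 m2_133
  have h135 : ∀ u < 12150, (fun u => chkFix tab mwords u) u = true := ext_range (a := 12060) (len := 90) h134 m2_134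
  have h136 : ∀ u < 12240, (fun u => chkFix tab mwords u) u = true := ext_range (a := 12150) (len := 90) h135 m2_135
  have h137 : ∀ u < 12330, (fun u => chkFix tab mwords u) u = true := ext_range (a := 12240) (len := 90) h136 m2_136
  have h138 : ∀ u < 12420, (fun u => chkFix tab mwords u) u = true := ext_range (a := 12330) (len := 90) h137 m2_137
  have h139 : ∀ u < 12510, (fun u => chkFix tab mwords u) u = true := ext_range (a := 12420) (len := 90) h138 m2_138
  have h140 : ∀ u < 12600, (fun u => chkFix tab mwords u) u = true := ext_range (a := 12510) (len := 90) h139 m2_139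
  have h141 : ∀ u < 12690, (fun u => chkFix tab mwords u) u = true := ext_range (a := 12600) (len := 90) h140 m2_140
  have h142 : ∀ u < 12780, (fun u => chkFix tab mwords u) u = true := ext_range (a := 12690) (len := 90) h141 m2_141
  have h143 : ∀ u < 12870, (fun u => chkFix tab mwords u) u = true := ext_range (a := 12780) (len := 90) h142 m2_142
  have h144 : ∀ u < 12960, (fun u => chkFix tab mwords u) u = true := ext_range (a := 12870) (len := 90) h143 m2_143
  have h145 : ∀ u < 13050, (fun u => chkFix tab mwords u) u = true := ext_range (a := 12960) (len := 90) h144 m2_144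
  have h146 : ∀ u < 13140, (fun u => chkFix tab mwords u) u = true := ext_range (a := 13050) (len := 90) h145 m2_145
  have h147 : ∀ u < 13230, (fun u => chkFix tab mwords u) u = true := ext_range (a := 13140) (len := 90) h146 m2_146
  have h148 : ∀ u < 13320, (fun u => chkFix tab mwords u) u = true := ext_range (a := 13230) (len := 90) h147 m2_147
  have h149 : ∀ u < 13410, (fun u => chkFix tab mwords u) u = true := ext_range (a := 13320) (len := 90) h148 m2_148
  have h150 : ∀ u < 13500, (fun u => chkFix tab mwords u) u = true := ext_range (a := 13410) (len := 90) h149 m2_149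
  have h151 : ∀ u < 13590, (fun u => chkFix tab mwords u) u = true := ext_range (a := 13500) (len := 90) h150 m2_150
  have h152 : ∀ u < 13680, (fun u => chkFix tab mwords u) u = true := ext_range (a := 13590) (len := 90) h151 m2_151
  have h153 : ∀ u < 13770, (fun u => chkFix tab mwords u) u = true := ext_range (a := 13680) (len := 90) h152 m2_152
  have h154 : ∀ u < 13860, (fun u => chkFix tab mwords u) u = true := ext_range (a := 13770) (len := 90) h153 m2_153
  have h155 : ∀ u < 13950, (fun u => chkFix tab mwords u) u = true := ext_range (a := 13860) (len := 90) h154 m2_154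
  have h156 : ∀ u < 14040, (fun u => chkFix tab mwords u) u = true := ext_range (a := 13950) (len := 90) h155 m2_155
  have h157 : ∀ u < 14130, (fun u => chkFix tab mwords u) u = true := ext_range (a := 14040) (len := 90) h156 m2_156
  have h158 : ∀ u < 14220, (fun u => chkFix tab mwords u) u = true := ext_range (a := 14130) (len := 90) h157 m2_157
  have h159 : ∀ u < 14310, (fun u => chkFix tab mwords u) u = true := ext_range (a := 14220) (len := 90) h158 m2_158
  have h160 : ∀ u < 14400, (fun u => chkFix tab mwords u) u = true := ext_range (a := 14310) (len := 90) h159 m2_159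
  have h161 : ∀ u < 14490, (fun u => chkFix tab mwords u) u = true := ext_range (a := 14400) (len := 90) h160 m2_160
  have h162 : ∀ u < 14580, (fun u => chkFix tab mwords u) u = true := ext_range (a := 14490) (len := 90) h161 m2_161
  have h163 : ∀ u < 14670, (fun u => chkFix tab mwords u) u = true := ext_range (a := 14580) (len := 90) h162 m2_162
  have h164 : ∀ u < 14760, (fun u => chkFix tab mwords u) u = true := ext_range (a := 14670) (len := 90) h163 m2_163
  have h165 : ∀ u < 14850, (fun u => chkFix tab mwords u) u = true := ext_range (a := 14760) (len := 90) h164 m2_164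
  have h166 : ∀ u < 14940, (fun u => chkFix tab mwords u) u = true := ext_range (a := 14850) (len := 90) h165 m2_165
  have h167 : ∀ u < 15030, (fun u => chkFix tab mwords u) u = true := ext_range (a := 14940) (len := 90) h166 m2_166
  have h168 : ∀ u < 15120, (fun u => chkFix tab mwords u) u = true := ext_range (a := 15030) (len := 90) h167 m2_167
  have h169 : ∀ u < 15210, (fun u => chkFix tab mwords u) u = true := ext_range (a := 15120) (len := 90) h168 m2_168
  have h170 : ∀ u < 15300, (fun u => chkFix tab mwords u) u = true := ext_range (a := 15210) (len := 90) h169 m2_169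
  have h171 : ∀ u < 15390, (fun u => chkFix tab mwords u) u = true := ext_range (a := 15300) (len := 90) h170 m2_170
  have h172 : ∀ u < 15480, (fun u => chkFix tab mwords u) u = true := ext_range (a := 15390) (len := 90) h171 m2_171
  have h173 : ∀ u < 15570, (fun u => chkFix tab mwords u) u = true := ext_range (a := 15480) (len := 90) h172 m2_172
  have h174 : ∀ u < 15660, (fun u => chkFix tab mwords u) u = true := ext_range (a := 15570) (len := 90) h173 m2_173
  have h175 : ∀ u < 15750, (fun u => chkFix tab mwords u) u = true := ext_range (a := 15660) (len := 90) h174 m2_174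
  have h176 : ∀ u < 15840, (fun u => chkFix tab mwords u) u = true := ext_range (a := 15750) (len := 90) h175 m2_175
  have h177 : ∀ u < 15930, (fun u => chkFix tab mwords u) u = true := ext_range (a := 15840) (len := 90) h176 m2_176
  have h178 : ∀ u < 16020, (fun u => chkFix tab mwords u) u = true := ext_range (a := 15930) (len := 90) h177 m2_177
  have h179 : ∀ u < 16110, (fun u => chkFix tab mwords u) u = true := ext_range (a := 16020) (len := 90) h178 m2_178
  have h180 : ∀ u < 16200, (fun u => chkFix tab mwords u) u = true := ext_range (a := 16110) (len := 90) h179 m2_179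
  have h181 : ∀ u < 16290, (fun u => chkFix tab mwords u) u = true := ext_range (a := 16200) (len := 90) h180 m2_180
  have h182 : ∀ u < 16380, (fun u => chkFix tab mwords u) u = true := ext_range (a := 16290) (len := 90) h181 m2_181
  have h183 : ∀ u < 16470, (fun u => chkFix tab mwords u) u = true := ext_range (a := 16380) (len := 90) h182 m2_182
  have h184 : ∀ u < 16560, (fun u => chkFix tab mwords u) u = true := ext_range (a := 16470) (len := 90) h183 m2_183
  have h185 : ∀ u < 16650, (fun u => chkFix tab mwords u) u = true := ext_range (a := 16560) (len := 90) h184 m2_184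
  have h186 : ∀ u < 16740, (fun u => chkFix tab mwords u) u = true := ext_range (a := 16650) (len := 90) h185 m2_185
  have h187 : ∀ u < 16830, (fun u => chkFix tab mwords u) u = true := ext_range (a := 16740) (len := 90) h186 m2_186
  have h188 : ∀ u < 16920, (fun u => chkFix tab mwords u) u = true := ext_range (a := 16830) (len := 90) h187 m2_187
  have h189 : ∀ u < 17010, (fun u => chkFix tab mwords u) u = true := ext_range (a := 16920) (len := 90) h188 m2_188
  have h190 : ∀ u < 17100, (fun u => chkFix tab mwords u) u = true := ext_range (a := 17010) (len := 90) h189 m2_189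
  have h191 : ∀ u < 17190, (fun u => chkFix tab mwords u) u = true := ext_range (a := 17100) (len := 90) h190 m2_190
  have h192 : ∀ u < 17280, (fun u => chkFix tab mwords u) u = true := ext_range (a := 17190) (len := 90) h191 m2_191
  have h193 : ∀ u < 17370, (fun u => chkFix tab mwords u) u = true := ext_range (a := 17280) (len := 90) h192 m2_192
  have h194 : ∀ u < 17460, (fun u => chkFix tab mwords u) u = true := ext_range (a := 17370) (len := 90) h193 m2_193
  have h195 : ∀ u < 17550, (fun u => chkFix tab mwords u) u = true := ext_range (a := 17460) (len := 90) h194 m2_194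
  have h196 : ∀ u < 17640, (fun u => chkFix tab mwords u) u = true := ext_range (a := 17550) (len := 90) h195 m2_195
  have h197 : ∀ u < 17730, (fun u => chkFix tab mwords u) u = true := ext_range (a := 17640) (len := 90) h196 m2_196
  have h198 : ∀ u < 17820, (fun u => chkFix tab mwords u) u = true := ext_range (a := 17730) (len := 90) h197 m2_197
  have h199 : ∀ u < 17910, (fun u => chkFix tab mwords u) u = true := ext_range (a := 17820) (len := 90) h198 m2_198
  have h200 : ∀ u < 18000, (fun u => chkFix tab mwords u) u = true := ext_range (a := 17910) (len := 90) h199 m2_199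
  have h201 : ∀ u < 18090, (fun u => chkFix tab mwords u) u = true := ext_range (a := 18000) (len := 90) h200 m2_200
  have h202 : ∀ u < 18180, (fun u => chkFix tab mwords u) u = true := ext_range (a := 18090) (len := 90) h201 m2_201
  have h203 : ∀ u < 18270, (fun u => chkFix tab mwords u) u = true := ext_range (a := 18180) (len := 90) h202 m2_202
  have h204 : ∀ u < 18360, (fun u => chkFix tab mwords u) u = true := ext_range (a := 18270) (len := 90) h203 m2_203
  have h205 : ∀ u < 18450, (fun u => chkFix tab mwords u) u = true := ext_range (a := 18360) (len := 90) h204 m2_204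
  have h206 : ∀ u < 18540, (fun u => chkFix tab mwords u) u = true := ext_range (a := 18450) (len := 90) h205 m2_205
  have h207 : ∀ u < 18630, (fun u => chkFix tab mwords u) u = true := ext_range (a := 18540) (len := 90) h206 m2_206
  have h208 : ∀ u < 18720, (fun u => chkFix tab mwords u) u = true := ext_range (a := 18630) (len := 90) h207 m2_207
  have h209 : ∀ u < 18810, (fun u => chkFix tab mwords u) u = true := ext_range (a := 18720) (len := 90) h208 m2_208
  have h210 : ∀ u < 18900, (fun u => chkFix tab mwords u) u = true := ext_range (a := 18810) (len := 90) h209 m2_209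
  have h211 : ∀ u < 18990, (fun u => chkFix tab mwords u) u = true := ext_range (a := 18900) (len := 90) h210 m2_210
  have h212 : ∀ u < 19080, (fun u => chkFix tab mwords u) u = true := ext_range (a := 18990) (len := 90) h211 m2_211
  have h213 : ∀ u < 19170, (fun u => chkFix tab mwords u) u = true := ext_range (a := 19080) (len := 90) h212 m2_212
  have h214 : ∀ u < 19260, (fun u => chkFix tab mwords u) u = true := ext_range (a := 19170) (len := 90) h213 m2_213
  have h215 : ∀ u < 19350, (fun u => chkFix tab mwords u) u = true := ext_range (a := 19260) (len := 90) h214 m2_214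
  have h216 : ∀ u < 19440, (fun u => chkFix tab mwords u) u = true := ext_range (a := 19350) (len := 90) h215 m2_215
  have h217 : ∀ u < 19530, (fun u => chkFix tab mwords u) u = true := ext_range (a := 19440) (len := 90) h216 m2_216
  have h218 : ∀ u < 19620, (fun u => chkFix tab mwords u) u = true := ext_range (a := 19530) (len := 90) h217 m2_217
  have h219 : ∀ u < 19710, (fun u => chkFix tab mwords u) u = true := ext_range (a := 19620) (len := 90) h218 m2_218
  have h220 : ∀ u < 19800, (fun u => chkFix tab mwords u) u = true := ext_range (a := 19710) (len := 90) h219 m2_219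
  have h221 : ∀ u < 19890, (fun u => chkFix tab mwords u) u = true := ext_range (a := 19800) (len := 90) h220 m2_220
  have h222 : ∀ u < 19980, (fun u => chkFix tab mwords u) u = true := ext_range (a := 19890) (len := 90) h221 m2_221
  have h223 : ∀ u < 20070, (fun u => chkFix tab mwords u) u = true := ext_range (a := 19980) (len := 90) h222 m2_222
  have h224 : ∀ u < 20160, (fun u => chkFix tab mwords u) u = true := ext_range (a := 20070) (len := 90) h223 m2_223
  have h225 : ∀ u < 20250, (fun u => chkFix tab mwords u) u = true := ext_range (a := 20160) (len := 90) h224 m2_224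
  have h226 : ∀ u < 20340, (fun u => chkFix tab mwords u) u = true := ext_range (a := 20250) (len := 90) h225 m2_225
  have h227 : ∀ u < 20430, (fun u => chkFix tab mwords u) u = true := ext_range (a := 20340) (len := 90) h226 m2_226
  have h228 : ∀ u < 20520, (fun u => chkFix tab mwords u) u = true := ext_range (a := 20430) (len := 90) h227 m2_227
  have h229 : ∀ u < 20610, (fun u => chkFix tab mwords u) u = true := ext_range (a := 20520) (len := 90) h228 m2_228
  have h230 : ∀ u < 20700, (fun u => chkFix tab mwords u) u = true := ext_range (a := 20610) (len := 90) h229 m2_229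
  have h231 : ∀ u < 20790, (fun u => chkFix tab mwords u) u = true := ext_range (a := 20700) (len := 90) h230 m2_230
  have h232 : ∀ u < 20880, (fun u => chkFix tab mwords u) u = true := ext_range (a := 20790) (len := 90) h231 m2_231
  have h233 : ∀ u < 20970, (fun u => chkFix tab mwords u) u = true := ext_range (a := 20880) (len := 90) h232 m2_232
  have h234 : ∀ u < 21060, (fun u => chkFix tab mwords u) u = true := ext_range (a := 20970) (len := 90) h233 m2_233
  have h235 : ∀ u < 21150, (fun u => chkFix tab mwords u) u = true := ext_range (a := 21060) (len := 90) h234 m2_234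
  have h236 : ∀ u < 21240, (fun u => chkFix tab mwords u) u = true := ext_range (a := 21150) (len := 90) h235 m2_235
  have h237 : ∀ u < 21330, (fun u => chkFix tab mwords u) u = true := ext_range (a := 21240) (len := 90) h236 m2_236
  have h238 : ∀ u < 21420, (fun u => chkFix tab mwords u) u = true := ext_range (a := 21330) (len := 90) h237 m2_237
  have h239 : ∀ u < 21504, (fun u => chkFix tab mwords u) u = true := ext_range (a := 21420) (len := 84) h238 m2_238
  exact h239

theorem hE : ∀ c < 7, ∀ u < 21530, chkE tab c u = true := by
  intro c hc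
  interval_cases c
  · exact hE0
  · exact hE1
  · exact hE2
  · exact hE3
  · exact hE4
  · exact hE5
  · exact hE6

end Cfsg.Agent.Helper9.TCData.HeK0
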