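import Cfsg.Agent.Lib.Helper9.TCData.HeK0.Main

set_option autoImplicit false
set_option maxRecDepth 1000000

namespace Cfsg.Agent.Helper9.TCData.HeK0
open Cfsg.Agent.Helper9.TC2

theorem m2_216 : allRange 19440 90 (fun u => chkFix tab mwords u) = true := by decide +kernel

theorem m2_217 : allRange 19530 90 (fun u => chkFix tab mwords u) = true := by decide +kernel

theorem m2_218 : allRange 19620 90 (fun u => chkFix tab mwords u) = true := by decide +kernel

theorem m2_219 : allRange 19710 90 (fun u => chkFix tab mwords u) = true := by decide +kernel

theorem m2_220 : allRange 19800 90 (fun u => chkFix tab mwords u) = true := by decide +kernel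

theorem m2_221 : allRange 19890 90 (fun u => chkFix tab mwords u) = true := by decide +kernel

theorem m2_222 : allRange 19980 90 (fun u => chkFix tab mwords u) = true := by decide +kernel

theorem m2_223 : allRange 20070 90 (fun u => chkFix tab mwords u) = true := by decide +kernel


end Cfsg.Agent.Helper9.TCData.HeK0
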